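import Groth.Agent.GrpSchLib.Homogeneous
import Groth.Agent.GrpSchLib.Action
import Groth.Agent.GrpSchLib.RedSubgroup
import Groth.Agent.GrpSchLib.AntiAffineHom
import Groth.Agent.AlgStLib.MonoQuotGrp
import Groth.Agent.EtFound.Descent
import Groth.Agent.FlatMisc.GenFlat
import Groth.Agent.H23.RedSub
import Mathlib.AlgebraicGeometry.Morphisms.Proper
import Mathlib.FieldTheory.IsAlgClosed.Basic

/-!
The orbit map of a rational point over an algebraically closed field is proper as soon as the orbit is closed and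
the stabiliser is proper.
-/

set_option autoImplicit false
set_option linter.unusedSectionVars false
set_option linter.style.haveILetI false
set_option backward.isDefEq.respectTransparency false
set_option backward.isDefEq.respectTransparency.types false

universe u

open CategoryTheory CategoryTheory.Limits MonoidalCategory CartesianMonoidalCategory MonObj AlgebraicGeometry
open Groth.Agent.GrpSchLib

namespace Groth.Agent.OrbitProper66

variable {k : Type u} [Field k]

/-- Closed points over an algebraically closed field are rational. -/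
theorem exists_point_of_isClosed [IsAlgClosed k] (W : Over (Spec (CommRingCat.of k))) [LocallyOfFiniteType W.hom]
    {c : W.left} (hc : IsClosed ({c} : Set W.left)) :
    ∃ w : 𝟙_ (Over (Spec (CommRingCat.of k))) ⟶ W, w.left (IsLocalRing.closedPoint k) = c := by
  let s := (pointEquivClosedPoint W.hom).symm ⟨c, hc⟩
  exact ⟨Over.homMk s.1 s.2, congrArg Subtype.val ((pointEquivClosedPoint W.hom).apply_symm_apply ⟨c, hc⟩)⟩

variable {G X : Over (Spec (CommRingCat.of k))} [GrpObj G]

/-- Translation by a rational point of the group. -/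
noncomputable def transl (a : AlgGrp.Action G X) (g : 𝟙_ (Over (Spec (CommRingCat.of k))) ⟶ G) : X ≅ X where
  hom := lift (toUnit X ≫ g) (𝟙 X) ≫ a.act
  inv := lift (toUnit X ≫ g⁻¹) (𝟙 X) ≫ a.act
  hom_inv_id := by
    rw [← Category.assoc (lift _ _ ≫ a.act), comp_lift, Category.comp_id, ← Category.assoc, comp_toUnit,
      GrpObj.comp_inv, act_mul, inv_mul_cancel, act_one]
  inv_hom_id := by
    rw [← Category.assoc (lift _ _ ≫ a.act), comp_lift, Category.comp_id, ← Category.assoc, comp_toUnit,
      GrpObj.comp_inv, act_mul, mul_inv_cancel, act_one]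

theorem orbitMap_transl (a : AlgGrp.Action G X) (o : 𝟙_ (Over (Spec (CommRingCat.of k))) ⟶ X)
    (g : 𝟙_ (Over (Spec (CommRingCat.of k))) ⟶ G) :
    a.orbitMap o ≫ (transl a g).hom = ((toUnit G ≫ g) * 𝟙 G) ≫ a.orbitMap o := by
  simp only [transl, AlgGrp.Action.orbitMap]
  rw [← Category.assoc _ (lift _ _), comp_lift, Category.comp_id, ← Category.assoc _ (toUnit X), comp_toUnit,
    act_mul]
  simp only [← Category.assoc]
  rw [comp_lift, Category.comp_id, ← Category.assoc, comp_toUnit]

theorem point_orbitMap_transl (a : AlgGrp.Action G X) (o : 𝟙_ (Over (Spec (CommRingCat.of k))) ⟶ X)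
    (g h : 𝟙_ (Over (Spec (CommRingCat.of k))) ⟶ G) :
    h ≫ a.orbitMap o ≫ (transl a g).hom = (g * h) ≫ a.orbitMap o := by
  rw [orbitMap_transl, ← Category.assoc, MonObj.comp_mul, ← Category.assoc, comp_toUnit, Category.comp_id,
    toUnit_unique (toUnit (𝟙_ (Over (Spec (CommRingCat.of k))))) (𝟙 _), Category.id_comp]

/-- For a reduced group: closed orbit and proper stabiliser give a proper orbit map. -/
theorem isProper_orbitMap_of_reduced [IsAlgClosed k] [LocallyOfFiniteType G.hom] [QuasiCompact G.hom]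
    [IsReduced G.left] [LocallyOfFiniteType X.hom] [QuasiCompact X.hom] (a : AlgGrp.Action G X)
    (o : 𝟙_ (Over (Spec (CommRingCat.of k))) ⟶ X) (hcl : IsClosed (Set.range (a.orbitMap o).left))
    (hstab : IsProper (pullback (a.orbitMap o) o).hom) : IsProper (a.orbitMap o).left := by
  have sq := (AlgStLib.MonoFactor.isPullback_orbitMap a o).map (Over.forget _)
  let φ := a.orbitMap o
  haveI : LocallyOfFiniteType (φ.left ≫ X.hom) := by rw [Over.w φ]; infer_instance
  haveI : LocallyOfFiniteType φ.left := locallyOfFiniteType_of_comp φ.left X.hom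
  haveI : JacobsonSpace X.left := LocallyOfFiniteType.jacobsonSpace X.hom
  haveI : JacobsonSpace G.left := LocallyOfFiniteType.jacobsonSpace G.hom
  haveI : CompactSpace G.left := (quasiCompact_iff_compactSpace G.hom).mp inferInstance
  haveI : IsLocallyNoetherian X.left := LocallyOfFiniteType.isLocallyNoetherian X.hom
  haveI : IsLocallyNoetherian G.left := LocallyOfFiniteType.isLocallyNoetherian G.hom
  haveI : CompactSpace X.left := (quasiCompact_iff_compactSpace X.hom).mp inferInstance
  haveI : IsNoetherian X.left := ⟨⟩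
  haveI : QuasiSeparatedSpace X.left := inferInstance
  haveI : QuasiCompact φ.left := inferInstance
  haveI hker : IsProper (pullback.snd φ.left φ.left) := by
    haveI : IsProper (fst G (pullback (a.orbitMap o) o)).left :=
      MorphismProperty.pullback_fst G.hom (pullback (a.orbitMap o) o).hom hstab
    show IsProper (pullback.snd ((Over.forget _).map (a.orbitMap o)) ((Over.forget _).map (a.orbitMap o)))
    rw [← sq.isoPullback_inv_snd]
    haveI : IsProper ((Over.forget _).map (fst G (pullback (a.orbitMap o) o))) := by assumption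
    infer_instance
  -- the reduced orbit
  obtain ⟨O, jO, _, _, hO⟩ := H23.RedSub.exists_reduced_subscheme X.left hcl.isLocallyClosed
  haveI : IsClosedImmersion jO := .of_isPreimmersion jO (hO.symm ▸ hcl)
  obtain ⟨g, hg⟩ := H23.RedSub.exists_lift φ.left jO hO.symm.le
  haveI : LocallyOfFiniteType g := by
    haveI : LocallyOfFiniteType (g ≫ jO) := by rw [hg]; infer_instance
    exact locallyOfFiniteType_of_comp g jO
  haveI : QuasiCompact g := by
    haveI : QuasiCompact (g ≫ jO) := by rw [hg]; infer_instance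
    exact QuasiCompact.of_comp g jO
  have hgsurj : Function.Surjective g := fun y => by
    obtain ⟨x, hx⟩ := hO.le ⟨y, rfl⟩
    exact ⟨x, jO.isEmbedding.injective (by rw [← hx, ← Scheme.Hom.comp_apply, hg])⟩
  haveI : Nonempty G.left := ⟨η[G].left (default : Spec (CommRingCat.of k))⟩
  haveI : Nonempty O := Nonempty.map g inferInstance
  obtain ⟨W, hWne, -, hWflat, hWlfp⟩ := FlatMisc.exists_flat_open g ⊤ Set.univ_nonempty
  have hWprop : IsProper (g ∣_ W) := by
    haveI : Surjective (g ∣_ W) := IsZariskiLocalAtTarget.restrict ⟨hgsurj⟩ W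
    have sq₁ : IsPullback (pullback.fst (g ∣_ W) (g ∣_ W) ≫ (g ⁻¹ᵁ W).ι) (pullback.snd (g ∣_ W) (g ∣_ W)) φ.left
        ((g ⁻¹ᵁ W).ι ≫ φ.left) := by
      have e : (g ⁻¹ᵁ W).ι ≫ φ.left = (g ∣_ W) ≫ W.ι ≫ jO := by rw [morphismRestrict_ι_assoc, hg]
      rw [e]
      have h1 := (IsPullback.of_hasPullback (g ∣_ W) (g ∣_ W)).paste_horiz (isPullback_morphismRestrict g W).flip
      refine ⟨⟨by rw [← hg, ← Category.assoc (_ ≫ _) g jO, h1.w]; simp only [Category.assoc]⟩, ⟨PullbackCone.IsLimit.mk _ (fun s => h1.lift s.fst s.snd ?_)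
        (fun s => h1.lift_fst _ _ _) (fun s => h1.lift_snd _ _ _) (fun s m hm₁ hm₂ => h1.hom_ext
          (hm₁.trans (h1.lift_fst _ _ _).symm) (hm₂.trans (h1.lift_snd _ _ _).symm))⟩⟩
      rw [← cancel_mono jO, Category.assoc, Category.assoc, hg, s.condition, Category.assoc]
    have hp : IsProper (pullback.snd (g ∣_ W) (g ∣_ W)) := by
      rw [← sq₁.isoPullback_hom_snd]
      have : IsProper (pullback.snd φ.left ((g ⁻¹ᵁ W).ι ≫ φ.left)) := by
        rw [← (Iso.inv_comp_eq _).2 (pullbackLeftPullbackSndIso_hom_snd φ.left φ.left (g ⁻¹ᵁ W).ι).symm]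
        infer_instance
      infer_instance
    have hd := EtFound.fpqc_isProper.{u}
    exact MorphismProperty.of_isPullback_of_descendsAlong
      (P := @IsProper) (Q := (@Surjective ⊓ @Flat ⊓ @QuasiCompact : MorphismProperty Scheme.{u}))
      (IsPullback.of_hasPullback (g ∣_ W) (g ∣_ W)).flip ⟨⟨‹_›, ‹_›⟩, inferInstance⟩ hp
  obtain ⟨V', hV', hVW'⟩ := jO.isEmbedding.isInducing.isOpen_iff.mp W.2
  let V : X.left.Opens := ⟨V', hV'⟩
  have hVW : jO ⁻¹ᵁ V = W := TopologicalSpace.Opens.ext hVW'
  haveI hφV : IsProper (φ.left ∣_ V) := by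
    have : IsProper ((g ≫ jO) ∣_ V) := by
      rw [morphismRestrict_comp]
      have : IsProper (g ∣_ jO ⁻¹ᵁ V) := by rw [hVW]; exact hWprop
      infer_instance
    rwa [hg] at this
  have hT : ∀ t : 𝟙_ (Over (Spec (CommRingCat.of k))) ⟶ G,
      IsProper (φ.left ∣_ (transl a t).hom.left ⁻¹ᵁ V) := by
    intro t
    let T := (transl a t).hom.left
    haveI : IsIso T := ((Over.forget _).mapIso (transl a t)).isIso_hom
    let Lh : G ⟶ G := (toUnit G ≫ t) * 𝟙 G
    haveI : IsIso Lh := by
      refine ⟨(toUnit G ≫ t⁻¹) * 𝟙 G, ?_, ?_⟩ <;>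
        simp only [Lh, MonObj.comp_mul, Category.comp_id, ← Category.assoc, comp_toUnit, GrpObj.comp_inv,
          ← _root_.mul_assoc, inv_mul_cancel, mul_inv_cancel, _root_.one_mul]
    haveI : IsIso Lh.left := inferInstanceAs (IsIso ((Over.forget _).map Lh))
    have e : φ.left ≫ T = Lh.left ≫ φ.left := congrArg CommaMorphism.left (orbitMap_transl a o t)
    have h1 : IsProper ((φ.left ≫ T) ∣_ V) := by
      rw [e, morphismRestrict_comp]
      infer_instance
    rw [morphismRestrict_comp] at h1
    exact (MorphismProperty.cancel_right_of_respectsIso @IsProper _ (T ∣_ V)).1 h1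
  let U : Option (𝟙_ (Over (Spec (CommRingCat.of k))) ⟶ G) → X.left.Opens := fun i =>
    match i with
    | none => ⟨(Set.range φ.left)ᶜ, hcl.isOpen_compl⟩
    | some t => (transl a t).hom.left ⁻¹ᵁ V
  have hUtop : iSup U = ⊤ := by
    rw [eq_top_iff]
    intro z _
    rw [TopologicalSpace.Opens.mem_iSup]
    by_cases hz : z ∈ Set.range φ.left
    swap
    · exact ⟨none, hz⟩
    obtain ⟨c, hzc, hc⟩ := nonempty_inter_closedPoints (Z := closure {z}) ⟨_, subset_closure rfl⟩
      isClosed_closure.isLocallyClosed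
    have hpt : ∀ c : X.left, c ∈ Set.range φ.left → IsClosed ({c} : Set X.left) →
        ∃ h : 𝟙_ (Over (Spec (CommRingCat.of k))) ⟶ G, (h ≫ φ).left (IsLocalRing.closedPoint k) = c := by
      rintro _ ⟨x, rfl⟩ hcc
      obtain ⟨x', hx', hx'c⟩ := nonempty_inter_closedPoints (Z := φ.left ⁻¹' {φ.left x}) ⟨x, rfl⟩
        (hcc.preimage φ.left.continuous).isLocallyClosed
      obtain ⟨h, hh⟩ := exists_point_of_isClosed G hx'c
      exact ⟨h, by rw [Over.comp_left, Scheme.Hom.comp_apply, hh]; exact hx'⟩
    obtain ⟨h, hh⟩ := hpt c (hcl.closure_subset_iff.2 (Set.singleton_subset_iff.2 hz) hzc) hc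
    obtain ⟨w, hw⟩ := hWne
    obtain ⟨c₀, hc₀V, hc₀⟩ := nonempty_inter_closedPoints (Z := Set.range φ.left ∩ (V : Set X.left))
      ⟨jO w, hO.le ⟨w, rfl⟩, by rw [← hVW] at hw; exact hw⟩ (hcl.isLocallyClosed.inter V.2.isLocallyClosed)
    obtain ⟨h₀, hh₀⟩ := hpt c₀ hc₀V.1 hc₀
    refine ⟨some (h₀ * h⁻¹), (specializes_iff_mem_closure.2 hzc).mem_open (U (some _)).2 ?_⟩
    show (transl a (h₀ * h⁻¹)).hom.left c ∈ V
    rw [← hh, ← Scheme.Hom.comp_apply, ← Over.comp_left, Category.assoc, point_orbitMap_transl,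
      inv_mul_cancel_right, hh₀]
    exact hc₀V.2
  refine IsZariskiLocalAtTarget.of_iSup_eq_top (P := @IsProper) U hUtop fun i => ?_
  match i with
  | some t => exact hT t
  | none =>
    haveI : IsEmpty (φ.left ⁻¹ᵁ U none : Scheme.{u}) := ⟨fun x => x.2 ⟨x.1, rfl⟩⟩
    infer_instance

/-- Closed orbit and proper stabiliser give a proper orbit map. -/
theorem isProper_orbitMap [IsAlgClosed k] [LocallyOfFiniteType G.hom] [QuasiCompact G.hom]
    [LocallyOfFiniteType X.hom] [QuasiCompact X.hom] (a : AlgGrp.Action G X)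
    (o : 𝟙_ (Over (Spec (CommRingCat.of k))) ⟶ X) (hcl : IsClosed (Set.range (a.orbitMap o).left))
    (hstab : IsProper (pullback.snd (a.orbitMap o).left o.left)) : IsProper (a.orbitMap o).left := by
  obtain ⟨H, _, i, _, hi, hred, hsurj, hft, hqc⟩ := RedSubgroup.exists_redSubgroup G
  let φ := a.orbitMap o
  let b : AlgGrp.Action H X :=
    { act := (i ▷ X) ≫ a.act
      one_act := by rw [← comp_whiskerRight_assoc, IsMonHom.one_hom, a.one_act]
      mul_act := by
        have hres : ∀ {T : Over (Spec (CommRingCat.of k))} (g : T ⟶ H) (x : T ⟶ X),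
            lift g x ≫ (i ▷ X) ≫ a.act = lift (g ≫ i) x ≫ a.act := fun g x => by rw [lift_whiskerRight_assoc]
        have e1 : μ[H] ▷ X = lift ((fst _ _ ≫ fst H H) * (fst _ _ ≫ snd H H)) (snd _ _) := by
          rw [Hom.mul_def, ← comp_lift, lift_fst_snd, Category.comp_id]
          apply CartesianMonoidalCategory.hom_ext <;> simp
        have e2 : (α_ H H X).hom = lift (fst _ _ ≫ fst H H) (lift (fst _ _ ≫ snd H H) (snd _ _)) := by
          apply CartesianMonoidalCategory.hom_ext
          · simp
          · apply CartesianMonoidalCategory.hom_ext <;> simp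
        rw [e1, e2, hres, lift_whiskerLeft_assoc, hres, hres, act_mul, MonObj.mul_comp] }
  have hb : b.orbitMap o = i ≫ φ := by
    simp only [AlgGrp.Action.orbitMap, b, φ]
    simp only [← Category.assoc]
    congr 1
    apply CartesianMonoidalCategory.hom_ext <;> simp
  have hrange : Set.range (b.orbitMap o).left = Set.range φ.left := by
    rw [hb, Over.comp_left, Scheme.Hom.comp_base, TopCat.coe_comp]
    exact i.left.surjective.range_comp _
  have hstab' : IsProper (pullback (b.orbitMap o) o).hom := by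
    have sq : IsPullback (pullback.fst (i ≫ φ) o).left (pullback.snd (i ≫ φ) o).left (i ≫ φ).left o.left :=
      (IsPullback.of_hasPullback (i ≫ φ) o).map (Over.forget _)
    rw [hb, ← Over.w (pullback.snd (i ≫ φ) o)]
    have h2 : IsProper (pullback.snd (i.left ≫ φ.left) o.left) := by
      rw [← pullbackRightPullbackFstIso_inv_snd_snd]
      infer_instance
    have h3 : IsProper (pullback.snd (i ≫ φ) o).left := by
      rw [← sq.isoPullback_hom_snd]
      haveI : IsProper (pullback.snd (i ≫ φ).left o.left) := h2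
      infer_instance
    haveI : IsProper (𝟙_ (Over (Spec (CommRingCat.of k)))).hom := inferInstanceAs (IsProper (𝟙 _))
    infer_instance
  haveI := isProper_orbitMap_of_reduced b o (by rw [hrange]; exact hcl) hstab'
  haveI h4 : IsProper (i.left ≫ φ.left) := by rw [← Over.comp_left, ← hb]; infer_instance
  haveI : UniversallyClosed φ.left := UniversallyClosed.of_comp_surjective i.left φ.left
  haveI : IsSeparated G.hom := GrpSchLib.AntiAffine.isSeparated_grp G
  haveI : IsSeparated (φ.left ≫ X.hom) := by rw [Over.w φ]; infer_instance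
  haveI : IsSeparated φ.left := IsSeparated.of_comp φ.left X.hom
  haveI : LocallyOfFiniteType (φ.left ≫ X.hom) := by rw [Over.w φ]; infer_instance
  haveI : LocallyOfFiniteType φ.left := locallyOfFiniteType_of_comp φ.left X.hom
  exact ⟨⟩

end Groth.Agent.OrbitProper66
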